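import Groth.Agent.Lib.Hensel.FibreLocal
import Groth.Agent.Lib.Hensel.Noetherian
import Groth.Agent.Lib.Serre.Regular
import Mathlib.RingTheory.Depth.Rees

/-! Descent of Serre's conditions `(R_k)`, `(S_k)` along faithfully flat maps. -/

universe u

open IsLocalRing CategoryTheory

namespace GrothLib.FFDescent

theorem idealDepth_le_of_radical_eq {R : Type u} [CommRing R] [IsNoetherianRing R] {I J : Ideal R}
    (h : I.radical = J.radical) : LocCoh.idealDepth I R ≤ LocCoh.idealDepth J R := by
  by_cases hJ : J = ⊤
  · have : LocCoh.idealDepth J R = ⊤ := by rw [LocCoh.idealDepth, if_pos (by rw [hJ]; simp)]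
    simp [this]
  have hI : I ≠ ⊤ := fun hI ↦ hJ (Ideal.radical_eq_top.mp (by rw [← h, hI, Ideal.radical_top]))
  have hJ' : J • (⊤ : Submodule R R) ≠ ⊤ := by rwa [smul_eq_mul, Ideal.mul_top]
  refine Depth.le_of_forall_coe_le fun n hn ↦ ?_
  rw [Depth.le_idealDepth_iff_exists J hJ']
  obtain ⟨rs, h1, h2, h3⟩ := ModuleCat.exists_isRegular_of_exists_subsingleton_ext J n
    (ModuleCat.of R R) (lt_top_iff_ne_top.2 hJ') (ModuleCat.of R (R ⧸ I))
    ((GrothLib.LC.support_quotient_eq I).trans (by
      rw [← PrimeSpectrum.zeroLocus_radical, h, PrimeSpectrum.zeroLocus_radical]))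
    ((Depth.le_idealDepth_iff_ext I n).mp hn)
  exact ⟨rs, h1, h2, h3.toIsWeaklyRegular⟩

theorem idealDepth_eq_of_radical_eq {R : Type u} [CommRing R] [IsNoetherianRing R] {I J : Ideal R}
    (h : I.radical = J.radical) : LocCoh.idealDepth I R = LocCoh.idealDepth J R :=
  (idealDepth_le_of_radical_eq h).antisymm (idealDepth_le_of_radical_eq h.symm)

variable {R S : Type u} [CommRing R] [CommRing S] [Algebra R S]

theorem exists_minimal_over [IsNoetherianRing R] [IsNoetherianRing S] [Module.FaithfullyFlat R S]
    (p : Ideal R) [p.IsPrime] :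
    ∃ (P : Ideal S) (_ : P.IsPrime), P.under R = p ∧ P.height = p.height ∧
      P ∈ (p.map (algebraMap R S)).minimalPrimes := by
  obtain ⟨Q, hQ⟩ := PrimeSpectrum.comap_surjective_of_faithfullyFlat (A := R) (B := S) ⟨p, inferInstance⟩
  have hQp : Q.asIdeal.comap (algebraMap R S) = p := congrArg PrimeSpectrum.asIdeal hQ
  obtain ⟨q, hq, hqQ⟩ := Ideal.exists_minimalPrimes_le
    (Ideal.map_le_iff_le_comap.mpr hQp.ge : p.map (algebraMap R S) ≤ Q.asIdeal)
  have : q.IsPrime := hq.1.1
  have hqp : q.under R = p := le_antisymm ((Ideal.comap_mono hqQ).trans hQp.le)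
    (Ideal.map_le_iff_le_comap.mp hq.1.2)
  refine ⟨q, this, hqp, ?_, hq⟩
  subst hqp
  have hh := Ideal.height_eq_height_add_of_liesOver_of_hasGoingDown (q.under R) q
  have hI : (q.under R).map (algebraMap R S) ≤ q := hq.1.2
  have hmem : q.map (Ideal.Quotient.mk ((q.under R).map (algebraMap R S))) ∈
      minimalPrimes (S ⧸ (q.under R).map (algebraMap R S)) := by
    have hc : (q.map (Ideal.Quotient.mk ((q.under R).map (algebraMap R S)))).comap
        (Ideal.Quotient.mk _) = q := by
      rw [Ideal.comap_map_of_surjective _ Ideal.Quotient.mk_surjective, ← RingHom.ker_eq_comap_bot,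
        Ideal.mk_ker, sup_eq_left.mpr hI]
    have hprime : (q.map (Ideal.Quotient.mk ((q.under R).map (algebraMap R S)))).IsPrime :=
      Ideal.map_isPrime_of_surjective Ideal.Quotient.mk_surjective (by rw [Ideal.mk_ker]; exact hI)
    refine ⟨⟨hprime, bot_le⟩, fun P hP hle ↦ ?_⟩
    have := hP.1
    have h1 : q ≤ P.comap (Ideal.Quotient.mk _) := hq.2
      ⟨Ideal.comap_isPrime _ _, (Ideal.mk_ker.symm.le.trans (RingHom.ker_eq_comap_bot _).le).trans (Ideal.comap_mono bot_le)⟩
      ((Ideal.comap_mono hle).trans hc.le)
    rw [← Ideal.map_comap_of_surjective _ Ideal.Quotient.mk_surjective P]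
    exact Ideal.map_mono h1
  have := hmem.1.1
  rw [Ideal.height_eq_zero_iff.mpr hmem, add_zero] at hh
  exact hh

theorem exists_localization_flat_radical [Module.Flat R S] (P : Ideal S) [P.IsPrime]
    (hP : P ∈ ((P.under R).map (algebraMap R S)).minimalPrimes) :
    ∃ _ : Algebra (Localization.AtPrime (P.under R)) (Localization.AtPrime P),
      Module.Flat (Localization.AtPrime (P.under R)) (Localization.AtPrime P) ∧
      IsLocalHom (algebraMap (Localization.AtPrime (P.under R)) (Localization.AtPrime P)) ∧
        ((maximalIdeal (Localization.AtPrime (P.under R))).map (algebraMap _ _)).radical =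
          maximalIdeal (Localization.AtPrime P) := by
  let := Localization.AtPrime.algebraOfLiesOver (P.under R) P
  have hrad : ((maximalIdeal (Localization.AtPrime (P.under R))).map
      (algebraMap _ (Localization.AtPrime P))).radical = maximalIdeal (Localization.AtPrime P) := by
    rw [← Localization.AtPrime.map_eq_maximalIdeal, Ideal.map_map, ← IsScalarTower.algebraMap_eq,
      IsScalarTower.algebraMap_eq R S (Localization.AtPrime P), ← Ideal.map_map,
      IsLocalization.AtPrime.radical_map_of_mem_minimalPrimes (Localization.AtPrime P) P _ hP,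
      IsLocalization.AtPrime.map_eq_maximalIdeal]
  refine ⟨inferInstance, ?_, ?_, hrad⟩
  · exact (Module.flat_iff_of_isLocalization (Localization.AtPrime (P.under R))
      (P.under R).primeCompl _).mpr (Module.Flat.trans R S _)
  · exact ((local_hom_TFAE _).out 0 2 rfl rfl).mpr (Ideal.le_radical.trans hrad.le)

variable [IsNoetherianRing R] [IsNoetherianRing S] [Module.FaithfullyFlat R S]

theorem hasRk_descends {k : ℕ} (hS : LocCoh.HasRk k S) : LocCoh.HasRk k R := by
  intro p _ hp
  obtain ⟨P, _, rfl, hh, hmin⟩ := exists_minimal_over (S := S) p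
  have : IsRegularLocalRing (Localization.AtPrime P) := hS P (hh.le.trans hp)
  have : IsNoetherianRing (Localization.AtPrime (P.under R)) :=
    IsLocalization.isNoetherianRing (P.under R).primeCompl _ inferInstance
  obtain ⟨_, hflat, hloc, -⟩ := exists_localization_flat_radical (R := R) P hmin
  exact GrothLib.Serre.isRegularLocalRing_of_flat _ (Localization.AtPrime P)

theorem hasSk_descends {k : ℕ} (hS : LocCoh.HasSk k S S) : LocCoh.HasSk k R R := by
  rw [Hensel.hasSk_self_iff] at hS ⊢
  intro p _
  obtain ⟨P, _, rfl, hh, hmin⟩ := exists_minimal_over (S := S) p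
  have : IsNoetherianRing (Localization.AtPrime (P.under R)) :=
    IsLocalization.isNoetherianRing (P.under R).primeCompl _ inferInstance
  have : IsNoetherianRing (Localization.AtPrime P) :=
    IsLocalization.isNoetherianRing P.primeCompl _ inferInstance
  obtain ⟨_, hflat, hloc, hrad⟩ := exists_localization_flat_radical (R := R) P hmin
  have := hS P
  have hdim : ringKrullDim (Localization.AtPrime P) = ringKrullDim (Localization.AtPrime (P.under R)) := by
    rw [IsLocalization.AtPrime.ringKrullDim_eq_height P, IsLocalization.AtPrime.ringKrullDim_eq_height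
      (P.under R), hh]
  rw [hdim] at this
  refine this.trans (le_of_eq ?_)
  congr 1
  have : Module.FaithfullyFlat (Localization.AtPrime (P.under R)) (Localization.AtPrime P) :=
    .of_flat_of_isLocalHom
  unfold LocCoh.depth
  rw [← Depth.idealDepth_baseChange_eq (B := Localization.AtPrime P) _ (Localization.AtPrime (P.under R)),
    Depth.idealDepth_eq_of_equiv _ (TensorProduct.AlgebraTensorModule.rid (Localization.AtPrime (P.under R))
      (Localization.AtPrime P) (Localization.AtPrime P))]
  exact idealDepth_eq_of_radical_eq (by rw [hrad, (maximalIdeal.isMaximal _).isPrime.radical])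

end GrothLib.FFDescent
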